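import Cfsg.Agent.C3R.Loc
import Cfsg.Agent.Spor.J.McR
import Cfsg.Agent.Spor.J.Co3R
import Cfsg.Agent.ZC.Main

/-! Recognition of `Co₃`: the presentation, generation, and the isomorphism. -/

set_option autoImplicit false
set_option maxRecDepth 100000
set_option exponentiation.threshold 100000
set_option synthInstance.maxSize 2048
set_option linter.unusedSectionVars false

namespace Cfsg.Agent.C3R

open Cfsg.Agent.Comp Cfsg.Agent.Known Cfsg.Agent.BG Cfsg.Agent.Rec Cfsg.Agent.Spor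

variable {G : Type*} [Group G] {y : ℕ → G} {a : G}

def gg (y : ℕ → G) (a : G) (l : ℕ) : G := if l = 6 then a else y l
noncomputable def es (k : ℕ) : List ℕ := wd (Comp.get 13 8191 (nat_lit 0x3b837417607102780901b40ed05f024c0920ea04b008000800004f81f41e609905780900f405507b032c1520520670080008000) k)
noncomputable def lt (l k : ℕ) : ℕ := force k fun k => if l < 8 ∧ k < 32 then Comp.get 6 63 (nat_lit 0x71459f55a6194dd6de5d24503080cf14a10e1872c934204075e7d65da6196dc4d455149038f34824a2cc1871050c1080ffffffffffffffffffffffff08d38a2cc1c424314818f04065c5de6127db7565154da45024c1ce2023cb3461050ca04049d79a6dc5d465355859f450ffffffffffffffffffffffff7de75c6da6585d65544d24501481cb30a10e3433c918204071765f6d275679855351a45030724f2c234638814310a0406d45d57da61975371e5924503ce34c2ca2481c61440c2040) (32 * l + k) else 63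
noncomputable def ap (w : List ℕ) : ℕ → ℕ := List.rec (fun n => n) (fun l _ ih n => ih (lt l n)) w

theorem ev_gg {w : List ℕ} (hw : 6 ∉ w) : ev (gg y a) w = W y w.reverse := by
  induction w with
  | nil => rfl
  | cons l w ih =>
    rw [List.mem_cons, not_or] at hw
    simp [ih hw.2, gg, Ne.symm hw.1]

theorem A0.lt (h : St y) (H : A0 y a) {l n : ℕ} (e : lt l n < 32) : n < 32 ∧ Mp y (gg y a l) (es n) (es (lt l n)) := by
  have h1 : l < 8 ∧ n < 32 := by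
    rw [C3R.lt, force_eq] at e
    split_ifs at e with c
    exacts [c, by omega]
  refine ⟨h1.2, ?_⟩
  by_cases h2 : l = 6
  · subst h2
    exact H.act.map h (nthL [] [[], [0, 0, 1, 0, 1, 1, 0, 1], [0, 0, 2, 0, 2, 2, 0, 2], [1, 1, 2, 0, 1, 1, 0, 2, 2], [1, 1, 2, 2, 0, 0, 1, 2], [2, 0, 2, 2, 0, 2], [1, 2, 0, 0, 1, 1, 2, 2], [0, 0, 1, 1, 2, 2, 0, 0, 1, 2], [2, 2, 0, 1, 1, 0, 1, 1, 2], [1, 1, 0, 2, 2, 0, 1, 2, 2], [0, 0, 1, 2, 0, 0, 1, 2, 0, 0, 1, 2], [1, 2, 0, 0, 1, 2, 0, 0, 1, 2], [0, 0], [1, 2, 2, 0, 2, 2, 0, 1, 1], [0, 0, 1, 2, 0, 0, 1, 1, 2, 2], [1, 0, 1, 1, 0, 1], [], [0, 0, 1, 0, 1, 1, 0, 1], [0, 0, 2, 0, 2, 2, 0, 2], [2, 0, 1, 1, 0, 1, 1, 2, 2], [0, 2, 2, 0, 2, 2], [1, 0, 0, 1, 1], [1, 1, 2, 0, 0, 1, 2, 2], [0, 2, 0, 1, 0, 0, 2, 0, 1, 0], [1, 0, 0, 1, 2, 0, 0, 1, 2, 2], [2, 2, 0, 0, 2], [0, 0, 1, 2, 0, 0, 1, 2, 0, 0, 1, 2], [1, 1, 0, 1, 1, 0], [1, 2, 0, 2, 2, 0, 1, 1, 2], [1, 1, 2, 2, 0, 2, 2,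 0, 1], [1, 2, 2, 0, 1, 1, 0, 1, 2], [1, 1, 2, 0, 0, 1, 2, 0, 0, 2]] n) (by have := h1.2; clear h1 e; revert n; decide +kernel)
  · simpa [gg, h2] using h.mp.1 ((show ∀ l < 8, ∀ n < 32, l ≠ 6 → C3R.lt l n < 32 →
      E ([l] ++ es n) (es (C3R.lt l n) ++ [l]) = true by decide +kernel) l h1.1 n h1.2 h2 e)

theorem A0.ap (h : St y) (H : A0 y a) {w : List ℕ} {n : ℕ} (e : ap w n < 32) : n < 32 ∧ Mp y (ev (gg y a) w) (es n) (es (ap w n)) := by
  induction w generalizing n with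
  | nil => exact ⟨e, by simp [C3R.ap, Mp]⟩
  | cons l w ih => exact ⟨(H.lt h (ih e).1).1, (ih e).2.comp (H.lt h (ih e).1).2⟩

theorem scan4 : ∀ n < 4608, ∀ o ∈ [0, 16], E (wd n ++ es (o + 3)) (es (o + 3) ++ wd n) = true →
    E (wd n ++ es (o + 4)) (es (o + 4) ++ wd n) = true → ∃ i < 16, E (wd n) (es (o + i)) = true := by
  have : allD (fun _ w => Comp.allL [0, 16] fun o => imp (E (w ++ es (o + 3)) (es (o + 3) ++ w))
      (imp (E (w ++ es (o + 4)) (es (o + 4) ++ w)) (anyLt 16 fun i => E w (es (o + i))))) = true := by decide +kernel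
  simpa only [allD_iff, Comp.allL_iff, imp_iff, anyLt_iff] using this

theorem A0.rels [Finite G] (h : St y) (H : A0 y a) : ∀ r ∈ JMcR.rels ++ JCo3R.rels, ev (gg y a) r = 1 := fun r hr => by
  rcases (show ∀ r ∈ JMcR.rels ++ JCo3R.rels, (6 ∉ r ∧ E r.reverse [] = true) ∨
    (∃ t ∈ ([([1, 2, 1, 2], [2], [2, 0, 1, 1, 0, 1, 1, 2, 2]), ([], [], []), ([4, 1], [4, 1], [0, 1, 0, 0, 2, 0, 1, 1, 2, 2]), ([0], [0], [1, 1, 2, 0, 1, 1, 0, 2, 2]), ([0, 1, 0, 1], [1, 0, 1], [1, 1, 2, 2, 0, 0, 1, 2]), ([1, 2, 1], [1, 2, 1], [0, 2, 2, 0, 2, 2]), ([7], [7], [1, 1, 0, 0, 1])] : List (List ℕ × List ℕ × List ℕ)), r = t.1 ++ 6 :: (t.2.1 ++ [6]) ∧ 6 ∉ t.1 ∧ 6 ∉ t.2.1 ∧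
      E t.2.1.reverse (dec t.2.2) = true ∧ E (sub [] t.2.2 ++ t.1.reverse) [] = true) ∨
    ∃ j ∈ [2, 3, 4, 5], r ++ r.take j = r.take j ++ r ∧ ∃ o ∈ [0, 16], (∀ i < 5, o + i < 32 ∧ C3R.ap r (o + i) = o + i) ∧
      ∀ i < 16, E (es (o + i)) [] = true ∨ C3R.ap (r.take j) (o + i) < 32 ∧ E (es (o + i)) (es (C3R.ap (r.take j) (o + i))) = false by
      decide +kernel) r hr with ⟨h1, h2⟩ | ⟨⟨v, u, c⟩, -, rfl, hv, hu, h1, h2⟩ | ⟨j, -, h1, o, ho, h2, h3⟩
  · rw [ev_gg h1]; exact (h.eq _ []).2 h2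
  · have := H.act.map h c ⟨h1, (h.eq _ _).1 rfl⟩
    rw [Mp, inv_eq_of_mul_eq_one_right H.sq] at this
    rw [ev_append, ev_cons, ev_append, ev_gg hu, ev_gg hv]
    simp only [ev_cons, ev_nil, one_mul, gg, if_true]
    rw [this, ← W_append]; exact (h.eq _ []).2 h2
  · have k : ∀ i < 5, Mp y (ev (gg y a) r) (es (o + i)) (es (o + i)) := fun i hi => by
      have := (H.ap h (w := r) (n := o + i) (by rw [(h2 i hi).2]; exact (h2 i hi).1)).2
      rwa [(h2 i hi).2] at this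
    have c : (E [14] (es (o + 1)) = true ∧ E (es (o + 1)) [14] = true) ∧ E [15] (es (o + 2)) = true ∧ E (es (o + 2)) [15] = true := by
      clear k h2 h3; revert o; decide +kernel
    obtain ⟨n, hn, e⟩ := h.surjM ((k 1 (by decide)).cast h c.1.1 c.1.2) ((k 2 (by decide)).cast h c.2.1 c.2.2)
    obtain ⟨i, hi, e1⟩ := scan4 n hn o ho (h.mp.2 (e ▸ k 3 (by decide))) (h.mp.2 (e ▸ k 4 (by decide)))
    rw [← h.eq, ← e] at e1
    rcases h3 i hi with h4 | ⟨h4, h5⟩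
    · exact e1.trans ((h.eq _ []).2 h4)
    · have : Mp y (ev (gg y a) (r.take j)) (es (o + i)) (es (o + i)) := by
        rw [Mp, mul_inv_eq_iff_eq_mul, ← e1, ← ev_append, ← ev_append, h1]
      exact absurd ((this.eq h (H.ap h h4).2).symm.trans ((h.eq _ _).1 rfl)) (ne_true_of_eq_false h5)

theorem A0.top [Finite G] (h : St y) (H : A0 y a) : genL (gg y a) (List.range 8) = ⊤ := by
  have hC : C1[y 14] ≤ genL (gg y a) (List.range 8) := h.gen.ge.trans (genL_le fun l hl => by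
    have := mem_genL (gg y a) (show l ∈ List.range 8 by revert l; decide)
    rwa [gg, if_neg (by rintro rfl; revert hl; decide)] at this)
  have ha : a ∈ genL (gg y a) (List.range 8) := mem_genL (gg y a) (x := 6) (by decide)
  generalize genL (gg y a) (List.range 8) = M at hC ha
  have hC' : ∀ {k}, Commute k (y 14) → k ∈ M := fun c => hC (Subgroup.mem_centralizer_singleton_iff.2 c.eq)
  have au : a * y 15 * a⁻¹ = y 14 := by simpa [Mp] using H.act.map h (p := [15]) (q := [14]) [0, 0, 2, 0, 2, 2, 0, 2] (by decide +kernel)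
  let Z : Set G := {x | ∃ g, g * y 14 * g⁻¹ = x}
  have zc : ∀ x ∈ Z, ∀ g, g * x * g⁻¹ ∈ Z := by
    rintro _ ⟨k, rfl⟩ g
    exact ⟨g * k, by group⟩
  have z2 : ∀ x ∈ Z, orderOf x = 2 := by
    rintro _ ⟨k, rfl⟩
    exact (BG.orderOf_conj' ..).trans h.ord_z
  have zz : y 14 ∈ Z := ⟨1, by group⟩
  have zu : y 15 ∈ Z := ⟨a⁻¹, by rw [← au]; group⟩
  have zm : ∀ x ∈ Z, ∀ x' ∈ Z, Commute x x' → x ≠ x' → x * x' ∈ Z := by
    rintro _ ⟨g, rfl⟩ x hx c e
    obtain ⟨m, hm⟩ := zc x hx g⁻¹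
    obtain ⟨k, hk, e1⟩ := h.cls' (g := m) (by simpa [hm, mul_assoc] using c.symm.conj g⁻¹) fun e1 => e (by rw [← e1, hm]; group)
    have := zc _ (zc _ zu (y 1)) (g * k⁻¹)
    rw [h.eu, ← e1, hm, ← mul_inv_eq_iff_eq_mul.2 hk.eq] at this
    convert this using 1
    group
  have l1 : ∀ x ∈ Z, ∀ m ∈ M, ∀ w, m * w * m⁻¹ = y 14 → Commute x w → ∃ m ∈ M, m * x * m⁻¹ = y 14 := fun x hx m hm w e c => by
    obtain ⟨g, hg⟩ := zc x hx m
    by_cases e1 : g * y 14 * g⁻¹ = y 14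
    · exact ⟨m, hm, hg ▸ e1⟩
    obtain ⟨k, hk, e2⟩ := h.cls' (g := g) (hg ▸ e ▸ c.conj m) e1
    exact ⟨a * k * m, mul_mem (mul_mem ha (hC' hk)) hm, by rw [← au, ← e2, hg]; group⟩
  have l2 : ∀ x ∈ Z, x ∈ M → ∃ m ∈ M, m * x * m⁻¹ = y 14 := fun x hx hM => by
    have xx := Invol.mul_self_of (z2 x hx)
    rcases Nat.even_or_odd (orderOf (x * y 14)) with e | e
    · obtain ⟨c1, c2, c3⟩ := Invol.half_pow_spec xx h.zz e
      have c4 : x * (x * y 14) ^ (orderOf (x * y 14) / 2) ∈ Z := by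
        rcases Nat.even_or_odd (orderOf (x * y 14) / 2) with e | e
        · obtain ⟨g, e⟩ := isConj_iff.1 (Invol.isConj_left_of_even xx h.zz e); exact e ▸ zc _ hx g
        · obtain ⟨g, e⟩ := isConj_iff.1 (Invol.isConj_right_of_odd xx h.zz e); exact e ▸ zc _ zz g
      generalize (x * y 14) ^ (orderOf (x * y 14) / 2) = c at c1 c2 c3 c4
      have c5 := zm x hx _ c4 ((Commute.refl x).mul_right c2.symm) fun e => Invol.ne_one_of c1 (by simpa using e)
      rw [← mul_assoc, xx, one_mul] at c5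
      obtain ⟨m, hm, e⟩ := l1 c c5 1 (one_mem _) _ (by group) c3
      exact l1 x hx m hm c e c2.symm
    · obtain ⟨k, e⟩ := Invol.exists_conj_of_odd xx h.zz e
      exact ⟨_, zpow_mem (mul_mem hM (hC' (Commute.refl _))) k, e⟩
  have l3 : ∀ {x g k}, x ∈ Z → g⁻¹ * x * g ∈ M → k⁻¹ * x * k ∈ M → g⁻¹ * k ∈ M := fun {x g k} hx h1 h2 => by
    obtain ⟨m, hm, e⟩ := l2 _ (by simpa using zc x hx g⁻¹) h1
    obtain ⟨m', hm', e'⟩ := l2 _ (by simpa using zc x hx k⁻¹) h2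
    have : m * (g⁻¹ * k) * m'⁻¹ ∈ M := hC' (mul_inv_eq_iff_eq_mul.1 (by nth_rw 1 [← e']; rw [← e]; group))
    rwa [M.mul_mem_cancel_right (inv_mem hm'), M.mul_mem_cancel_left hm] at this
  have fx : ∀ x g : G, x • (g : G ⧸ M) = g ↔ g⁻¹ * x * g ∈ M := fun x g => by
    rw [MulAction.Quotient.smul_mk, eq_comm, QuotientGroup.eq, smul_eq_mul, mul_assoc]
  have P : ZD.PC G (G ⧸ M) Z := ⟨z2, zc, by
    rintro _ ⟨g, rfl⟩
    exact ⟨g, (fx _ _).2 (by simpa [mul_assoc] using hC' (Commute.refl _))⟩, fun x hx g k h1 h2 => by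
      obtain ⟨g, rfl⟩ := QuotientGroup.mk_surjective g
      obtain ⟨k, rfl⟩ := QuotientGroup.mk_surjective k
      exact QuotientGroup.eq.2 (l3 hx ((fx _ _).1 h1) ((fx _ _).1 h2)), zm⟩
  refine eq_top_iff.2 fun g _ => ?_
  by_contra hg
  have z0 : ∀ l q, E (q ++ [15]) ([l] ++ q) = true → y l ∈ Z := fun l q e => by
    have := zc (W y [15]) (by simpa) (W y q)
    rw [h.cj.1 e] at this
    simpa using this
  have := P.comm_of_two zz ((fx _ 1).2 (by simpa using hC' (Commute.refl _))) (zc _ zz g) (fun e => hg (by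
    simpa using l3 (zc _ zz g) ((fx _ 1).1 e) (k := g) (by simpa [mul_assoc] using hC' (Commute.refl _))))
    (z0 0 [1, 4, 2, 5] (by decide +kernel)) (z0 2 [7, 3, 4, 3] (by decide +kernel))
    ⟨2, by simpa [pow_succ, mul_assoc] using h.e [0, 2, 0, 2, 0, 2, 0, 2] []⟩
  exact h.ne [0, 2] [2, 0] (by decide +kernel) (by simpa using this.eq)

theorem card_pair [Finite G] (h : St y) (H : A0 y a) : #(genL (fun l => (g0 l, gg y a l)) (List.range 8)) ≤ 495766656000 := by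
  have := fin0
  have r0 : ∀ {w : List ℕ}, (∀ l ∈ w, l < 6) → W y0 w.reverse = (W y0 w)⁻¹ := fun {w} hw => by
    induction w with
    | nil => simp
    | cons l w ih =>
      have : y0 l * y0 l = 1 := by
        simpa using (eq_iff hY (u := [l, l]) (v := [])).2 (by have := hw l List.mem_cons_self; clear hw ih; revert l; decide +kernel)
      simp [ih fun x hx => hw x (List.mem_cons_of_mem _ hx), inv_eq_of_mul_eq_one_right this]
  let K : Subgroup (Co3P.G × G) :=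
    { carrier := {x | ∃ w, (∀ l ∈ w, l < 6) ∧ x = (W y0 w, W y w)}
      one_mem' := ⟨[], by simp, rfl⟩
      mul_mem' := by
        rintro _ _ ⟨u, hu, rfl⟩ ⟨v, hv, rfl⟩
        exact ⟨u ++ v, fun l hl => (List.mem_append.1 hl).elim (hu l) (hv l), by simp⟩
      inv_mem' := by
        rintro _ ⟨u, hu, rfl⟩
        exact ⟨u.reverse, fun l hl => hu l (List.mem_reverse.1 hl), by
          rw [h.W_rev fun l hl => (hu l hl).trans (by decide), r0 hu]; rfl⟩ }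
  have h2 : CardLe K 40320 := ⟨inferInstance, (Nat.card_le_card_of_injective (fun x : K => (⟨x.1.1, by
    obtain ⟨_, w, hw, rfl⟩ := x
    exact W_mem _ fun l hl => mem_genL _ (List.mem_range.2 (hw l hl))⟩ : genL y0 (List.range 6))) (by
      rintro ⟨_, u, hu, rfl⟩ ⟨_, v, hv, rfl⟩ e
      have e : W y0 u = W y0 v := congrArg Subtype.val e
      exact Subtype.ext (Prod.ext e ((h.eq u v).2 ((eq_iff hY).1 e))))).trans card8⟩
  have h3 : (g0 255, gg y a 255) = 1 := Prod.ext (by simpa using (eq_iff hG (u := [255]) (v := [])).2 (by decide +kernel))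
    (by simpa [gg] using h.e [255] [])
  have h4 : ∀ r ∈ JMcR.rels ++ JCo3R.rels, ev (fun l => (g0 l, gg y a l)) r = 1 := fun r hr =>
    Prod.ext ((map_ev (MonoidHom.fst Co3P.G G) _ r).trans (by
      rw [← List.reverse_reverse r, ← W_eq_ev]; exact (eq_iff hG (v := [])).2 (by revert r; decide +kernel)))
      ((map_ev (MonoidHom.snd Co3P.G G) _ r).trans (H.rels h r hr))
  refine ((h2.of_relIndex (JMcR.relIndex_le h3 (fun r hr => h4 r (List.mem_append_left _ hr)) fun w hw => ?_)).of_relIndex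
    (JCo3R.relIndex_le h3 (fun r hr => h4 r (List.mem_append_right _ hr)) fun w hw => ?_)).2
  · obtain ⟨l, hl, rfl⟩ := (show ∀ w ∈ JMcR.subs, ∃ l < 6, w = [l] by decide) w hw
    exact ⟨[l], by simpa using hl, by simp [gg, hl.ne, y0_eq (show l ∈ LH by clear hw; revert l; decide)]⟩
  · obtain ⟨l, hl, rfl⟩ := (show ∀ w ∈ JCo3R.subs, ∃ l < 7, w = [l] by decide) w hw
    simpa using mem_genL (fun l => (g0 l, gg y a l)) (List.mem_range.2 hl)

theorem St.iso [Finite G] (h : St y) (hn : ¬ IsIsolatedInvolution (y 14)) : Nonempty (G ≃* Co3P.G) := by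
  obtain ⟨a, H⟩ := h.exists_a hn
  obtain ⟨f⟩ := Co3T.equiv
  have : IsSimpleGroup (Leech.St1 Leech.vv) := Leech.simple_Co3
  have := (Leech.equivCo3.trans f).symm.isSimpleGroup
  have := fin0
  have : Nontrivial G := ⟨_, _, h.z_ne⟩
  exact iso_of_pair (H.top h) top0 (Co3P.card ▸ card_pair h H)

end Cfsg.Agent.C3R
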